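import Cfsg.Agent.Lib.Helper28.BG12b
import Cfsg.Agent.Lib.Helper14.BG11A
import Cfsg.Agent.Lib.Helper2.BG12B
import Cfsg.Agent.S1324
import Cfsg.Agent.S1451
import Cfsg.Agent.S1452
import Cfsg.Agent.S1408

/-!
Rung P1 of the ladder for Bender-Glauberman Proposition 12.4 (statement S1416).
-/

set_option autoImplicit false

namespace Cfsg.Agent.Lib.Helper98.BG124

open Subgroup Cfsg.Agent.Lib.Helper30 Cfsg.Agent.Lib.Helper2 Cfsg.Agent.Lib.Helper68

universe u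

variable {G : Type u} [Group G] [Finite G]

theorem P1 (hG : Cfsg.IsMinSimpleOddOrder G) {M : Subgroup G} (hM : IsCoatom M) {p : ℕ}
    [Fact p.Prime] (hp : p ∈ Cfsg.alpha M) {A : Subgroup G} (hAM : A ≤ M)
    (hA : Cfsg.IsElementaryAbelian p A) (hA2 : Nat.card A = p ^ 2) :
    ∃ A₀ : Subgroup G, A₀ ≤ A ∧ Nat.card A₀ = p ∧ normalizer (A₀ : Set G) ≤ M ∧
      ∀ L : Subgroup G, IsCoatom L → normalizer (A₀ : Set G) ≤ L → L = M := by
  have hpp : p.Prime := Fact.out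
  have hU := Cfsg.Agent.Lib.Helper28.BG12.ut hG
  obtain ⟨P, hP, hAP⟩ := exists_isSylowIn_ge hAM (ea_isPGroup hA)
  have hPr : ¬ Cfsg.PRankLE p 2 P :=
    fun h => hp.2 (Cfsg.Agent.Lib.Helper2.BG12.pRankLE_of_sylow hP h)
  have hA1 : A ≠ ⊥ := by
    rintro rfl
    rw [card_bot] at hA2
    have := Nat.one_lt_pow (n := 2) (by norm_num) hpp.one_lt
    omega
  have hp2 : p ≠ 2 := Cfsg.Agent.Lib.Helper28.BG12.ne_two_of_isPGroup hG (ea_isPGroup hA) hA1
  have hnc : ¬ IsCyclic P := fun h =>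
    Cfsg.Agent.Lib.Helper2.BG96.not_isCyclic_of_ea hA hA2.ge
      (isCyclic_of_injective (inclusion hAP) (inclusion_injective hAP))
  obtain ⟨B, hBP, hPB, hB, hB2⟩ :=
    Cfsg.Agent.Lib.Helper58.BG9.exists_normal_sq hp2 hP.isPGroup hnc
  have : (B.subgroupOf P).Normal := (normal_subgroupOf_iff_le_normalizer hBP).mpr hPB
  obtain ⟨A', hBA', -, hA'c, hA'r⟩ := Cfsg.Agent.S1452.result (R := P) p hp2 hP.isPGroup hPr
    (B.subgroupOf P) (Cfsg.Agent.Lib.Helper58.BG9.elementary_subgroupOf hB P)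
    (by rw [card_subgroupOf hBP, hB2])
  obtain ⟨E, hEA', hE, hEc⟩ := exists_elementary_of_not_pRankLE hA'r
  have hEm : Cfsg.IsElementaryAbelian p (E.map P.subtype) :=
    Cfsg.Agent.Lib.Helper58.BG9.elementary_map hE.1 hE.2
  have hEmc : p ^ 2 < Nat.card (E.map P.subtype) := by
    rwa [card_map_of_injective P.subtype_injective]
  have hEmB : E.map P.subtype ≤ centralizer (B : Set G) := by
    rintro _ ⟨x, hx, rfl⟩
    have hx1 : x ∈ centralizer (A' : Set P) := by rw [hA'c]; exact hEA' hx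
    rw [mem_centralizer_iff]
    intro b hb
    have := mem_centralizer_iff.mp hx1 ⟨b, hBP hb⟩ (hBA' (mem_subgroupOf.mpr hb))
    exact congrArg Subtype.val this
  have hBM : B ≤ M := hBP.trans hP.le
  have hBtop : B ≠ ⊤ := fun h => hM.1 (top_le_iff.mp (h ▸ hBM))
  have hBU : Cfsg.InUniqueMaximal B := hU B hBtop
    (Cfsg.Agent.Lib.Helper58.BG9.not_rankLE_one_of_elementary le_rfl hB hB2.ge)
    (Or.inr (Cfsg.Agent.Lib.Helper58.BG9.not_rankLE_of_not_pRankLE hpp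
      (not_pRankLE_of_elementary hEmB hEm hEmc)))
  have h1 := Cfsg.Agent.Lib.Helper58.BG9.card_le_mul_card_inf_centralizer hP.isPGroup hBP hPB
    hB2.le hAP
  rw [hA2, sq] at h1
  have h2 : p ^ 1 ≤ Nat.card (A ⊓ centralizer (B : Set G) : Subgroup G) := by
    rw [pow_one]; exact Nat.le_of_mul_le_mul_left h1 hpp.pos
  obtain ⟨A₀, hA₀, hA₀c⟩ := Cfsg.Agent.Lib.Helper58.BG9.exists_le_card_eq
    ((ea_isPGroup hA).to_le inf_le_left) h2
  rw [pow_one] at hA₀c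
  have hA₀1 : A₀ ≠ ⊥ := by
    rintro rfl
    rw [card_bot] at hA₀c
    exact hpp.one_lt.ne hA₀c
  have hA₀A : A₀ ≤ A := hA₀.trans inf_le_left
  have hA₀top : A₀ ≠ ⊤ := fun h => hM.1 (top_le_iff.mp (h ▸ hA₀A.trans hAM))
  have hBN : B ≤ normalizer (A₀ : Set G) := by
    refine le_trans ?_ (centralizer_le_normalizer _)
    exact Cfsg.Agent.Lib.Helper58.BG9.le_centralizer_symm (hA₀.trans inf_le_right)
  have hNtop := normalizer_ne_top hG hA₀1 hA₀top
  refine ⟨A₀, hA₀A, hA₀c, uniq_le hBU hM hBM hBN hNtop, ?_⟩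
  intro L hL hNL
  exact uniq_eq hBU hM hBM hL (hBN.trans hNL)

end Cfsg.Agent.Lib.Helper98.BG124
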