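import Cfsg.Agent.Lib.Helper28.BG12b
import Cfsg.Agent.Lib.Helper14.BG11A
import Cfsg.Agent.Lib.Helper2.BG12B
import Cfsg.Agent.Lib.Helper30.CNLocal2
import Cfsg.Agent.S1324
import Cfsg.Agent.S1451
import Cfsg.Agent.S1452
import Cfsg.Agent.S1408

/-!
Rung P4 of the ladder for Bender-Glauberman Proposition 12.4 (statement S1416).
-/

set_option autoImplicit false

namespace Cfsg.Agent.Lib.Helper98.BG124

open Subgroup Cfsg.Agent.Lib.Helper30 Cfsg.Agent.Lib.Helper2 Cfsg.Agent.Lib.Helper68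

universe u

variable {G : Type u} [Group G] [Finite G]

/-- a Sylow subgroup of a nilpotent subgroup `K` is normalized by `N(K)`. -/
theorem normalizer_le_normalizer_of_isSylowIn {p : ℕ} [Fact p.Prime] {P K : Subgroup G}
    (hK : Group.IsNilpotent K) (hP : IsSylowIn p P K) :
    normalizer (K : Set G) ≤ normalizer (P : Set G) := by
  intro g hg
  apply mem_normalizer_of_cj_eq
  have h1 : IsSylowIn p (cj g P) K := by
    have := hP.cj g
    rwa [cj_eq_of_mem_normalizer hg] at this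
  obtain ⟨k, hk, hkP⟩ := hP.conj h1
  obtain ⟨P', hP'⟩ := hP.exists_sylow
  have hn := sylow_normal_of_nilpotent hK P'
  have h2 : K ≤ normalizer (P : Set G) := by
    rw [← hP']; exact Cfsg.Agent.Lib.Helper28.le_normalizer_map_subtype hn
  rw [hkP, cj_eq_of_mem_normalizer (h2 hk)]

omit [Finite G] in
theorem le_normalizer_commutator_self (M : Subgroup G) :
    M ≤ normalizer ((⁅M, M⁆ : Subgroup G) : Set G) :=
  le_normalizer_commutator le_normalizer le_normalizer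

theorem P4 (hG : Cfsg.IsMinSimpleOddOrder G) {M : Subgroup G} (hM : IsCoatom M)
    (hnil : Group.IsNilpotent ↥⁅M, M⁆) (hσ : Cfsg.sigmaCore M ≠ ⊥) {p : ℕ} [Fact p.Prime]
    (hr : Cfsg.PRankLE p 2 M) {A : Subgroup G} (hAM : A ≤ M) (hA : Cfsg.IsElementaryAbelian p A)
    (hA2 : Nat.card A = p ^ 2) (hc : Cfsg.sigmaCore M ≤ centralizer (A : Set G)) :
    p ∈ Cfsg.sigma M := by
  by_contra hp
  have hpp : p.Prime := Fact.out
  have hr1 : ¬ Cfsg.PRankLE p 1 M := not_pRankLE_of_elementary hAM hA (by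
    rw [hA2]; exact Nat.pow_lt_pow_right hpp.one_lt (by norm_num))
  have hmax := (Cfsg.Agent.S1408.result hG M hM p hp hr hr1).2 A hAM hA hA2
  have hcard : Nat.card (Cfsg.sigmaCore M) ≠ 1 := fun h => hσ (card_eq_one.mp h)
  obtain ⟨q, hq, hqd⟩ := Nat.exists_prime_and_dvd hcard
  have : Fact q.Prime := ⟨hq⟩
  have hqσ : q ∈ Cfsg.sigma M := (Cfsg.Agent.Lib.Helper28.BG12.sigmaCore_hall hG hM).2.1 q hq hqd
  have hpq : p ≠ q := fun h => hp (h ▸ hqσ)
  obtain ⟨Q, hQ⟩ := exists_isSylowIn q M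
  have hQσ : Q ≤ Cfsg.sigmaCore M :=
    Cfsg.Agent.Lib.Helper28.BG12.isPGroup_le_sigmaCore hG hM hqσ hQ.le hQ.isPGroup
  have hNQ : normalizer (Q : Set G) ≤ M := normalizer_le_of_mem_sigma hqσ hQ
  have hQtop : IsSylowIn q Q ⊤ := isSylowIn_top_of_normalizer_le hQ hNQ
  have hQ1 : Q ≠ ⊥ := by
    rintro rfl
    apply hQ.not_dvd
    rw [relIndex_bot_left]
    exact hqσ.2.1
  have hQC : Q ≤ centralizer (A : Set G) := hQσ.trans hc
  have hqC : q ∣ Nat.card (centralizer (A : Set G)) :=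
    (dvd_card_of_isPGroup_ne_bot hQ.isPGroup hQ1).trans (card_dvd_of_le hQC)
  have hAQ : A ≤ normalizer (Q : Set G) :=
    (Cfsg.Agent.Lib.Helper58.BG9.le_centralizer_symm hQC).trans
      (centralizer_le_normalizer _)
  have hQmax : Q ∈ Cfsg.maxInvSubgroups ⊤ A {q} :=
    ⟨mem_invSubgroups_top_iff.mpr ⟨hQ.isPGroup, hAQ⟩, fun R hR hQR =>
      hQtop.eq_of_le le_top (mem_invSubgroups_top_iff.mp hR).1 hQR⟩
  obtain ⟨S, hAS, -, hSc⟩ := Cfsg.Agent.Lib.Helper14.BG11.L109 hG hpq hA hA2 hmax hqC hQmax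
  have hSM' : (S : Subgroup G) ≤ ⁅M, M⁆ := hSc.trans (commutator_mono hNQ hNQ)
  have hM'M : ⁅M, M⁆ ≤ M := commutator_le_self M
  have hStop : IsSylowIn p (S : Subgroup G) ⊤ := isSylowIn_top_of_sylow S
  have hSM : IsSylowIn p (S : Subgroup G) M := IsSylowIn_of_le hStop (hSM'.trans hM'M) le_top
  have hSK : IsSylowIn p (S : Subgroup G) ⁅M, M⁆ := IsSylowIn_of_le hStop hSM' le_top
  have hMS : M ≤ normalizer ((S : Subgroup G) : Set G) :=
    (le_normalizer_commutator_self M).trans (normalizer_le_normalizer_of_isSylowIn hnil hSK)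
  have hA1 : A ≠ ⊥ := by
    rintro rfl
    rw [card_bot] at hA2
    have := Nat.one_lt_pow (n := 2) (by norm_num) hpp.one_lt
    omega
  have hS1 : (S : Subgroup G) ≠ ⊥ := fun h => hA1 (le_bot_iff.mp (h ▸ hAS))
  have hNS := normalizer_eq_of_coatom hG hM hS1 hSM.le hMS
  exact hp (mem_sigma_of_normalizer_le hSM hS1 hNS.le)

end Cfsg.Agent.Lib.Helper98.BG124
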