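import Cfsg.Agent.Lib.Helper98.BG124P4

/-!
Rung P5 of the ladder for Bender-Glauberman Proposition 12.4 (statement S1416).
-/

set_option autoImplicit false

namespace Cfsg.Agent.Lib.Helper98.BG124

open Subgroup Cfsg.Agent.Lib.Helper30 Cfsg.Agent.Lib.Helper2 Cfsg.Agent.Lib.Helper68
  Cfsg.Agent.Lib.Helper2.BG96

universe u

variable {G : Type u} [Group G] [Finite G]

theorem P5 (hG : Cfsg.IsMinSimpleOddOrder G) {M : Subgroup G} (hM : IsCoatom M)
    (hnil : Group.IsNilpotent ↥⁅M, M⁆) {p : ℕ} [Fact p.Prime] (hp : p ∈ Cfsg.sigma M)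
    (hr : Cfsg.PRankLE p 2 M) {A : Subgroup G} (hAM : A ≤ M) (hA : Cfsg.IsElementaryAbelian p A)
    (hA2 : Nat.card A = p ^ 2)
    (hn : ∀ A₀ : Subgroup G, A₀ ≤ A → Nat.card A₀ = p →
      ¬ (normalizer (A₀ : Set G) ≤ M ∧
        ∀ L : Subgroup G, IsCoatom L → normalizer (A₀ : Set G) ≤ L → L = M)) :
    centralizer (A : Set G) ≤ M := by
  have hpp : p.Prime := Fact.out
  have hU := Cfsg.Agent.Lib.Helper28.BG12.ut hG
  obtain ⟨P, hP, hAP⟩ := exists_isSylowIn_ge hAM (ea_isPGroup hA)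
  have hPM' : P ≤ ⁅M, M⁆ := sylow_le_commutator_of_mem_sigma hG hU hM hp hP
  have hPK : IsSylowIn p P ⁅M, M⁆ := IsSylowIn_of_le hP hPM' (commutator_le_self M)
  have hMP : M ≤ normalizer (P : Set G) :=
    (le_normalizer_commutator_self M).trans (normalizer_le_normalizer_of_isSylowIn hnil hPK)
  have hA1 : A ≠ ⊥ := by
    rintro rfl
    rw [card_bot] at hA2
    have := Nat.one_lt_pow (n := 2) (by norm_num) hpp.one_lt
    omega
  have hP1 : P ≠ ⊥ := fun h => hA1 (le_bot_iff.mp (h ▸ hAP))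
  set Z := omZ p P with hZdef
  have hZ1 : Z ≠ ⊥ := Cfsg.Agent.Lib.Helper2.BG96.omZ_ne_bot hP.isPGroup hP1
  have hZP : Z ≤ P := omZ_le p P
  have hZea : Cfsg.IsElementaryAbelian p Z := omZ_ea p P
  have hMZ : M ≤ normalizer (Z : Set G) := hMP.trans (normalizer_le_normalizer_omZ p P)
  have hNZ : normalizer (Z : Set G) = M := normalizer_eq_of_coatom hG hM hZ1 (hZP.trans hP.le) hMZ
  have hZA : Cfsg.IsElementaryAbelian p (Z ⊔ A) := by
    apply ea_sup hZea hA
    intro z hz a ha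
    exact (mem_centralizer_iff.mp (mem_omZ.mp hz).2.1 a (hAP ha)).symm
  have hle : Nat.card (Z ⊔ A : Subgroup G) ≤ p ^ 2 :=
    card_le_of_pRankLE hr (sup_le (hZP.trans hP.le) hAM) hZA
  have hZA' : Z ⊔ A = A := by
    symm
    apply eq_of_le_of_card_ge le_sup_right
    rw [hA2]; exact hle
  have hZleA : Z ≤ A := hZA' ▸ le_sup_left
  have hZd : Nat.card Z ∣ p ^ 2 := hA2 ▸ card_dvd_of_le hZleA
  obtain ⟨k, hk, hkc⟩ := (Nat.dvd_prime_pow hpp).mp hZd
  have hk0 : k ≠ 0 := by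
    rintro rfl
    rw [pow_zero] at hkc
    exact hZ1 (card_eq_one.mp hkc)
  have hk1 : k ≠ 1 := by
    rintro rfl
    rw [pow_one] at hkc
    refine hn Z hZleA hkc ⟨hNZ.le, ?_⟩
    intro L hL hNL
    rw [hNZ] at hNL
    exact Cfsg.Agent.Lib.Helper2.BG12.eq_of_coatom_le hM hL hNL
  have hk2 : k = 2 := by omega
  subst hk2
  have hZeq : Z = A := eq_of_le_of_card_ge hZleA (by rw [hA2, hkc])
  calc centralizer (A : Set G) ≤ normalizer (A : Set G) := centralizer_le_normalizer _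
    _ = M := by rw [← hZeq]; exact hNZ

end Cfsg.Agent.Lib.Helper98.BG124
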