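import Cfsg.Agent.Lib.Helper98.BG139R12
import Cfsg.Agent.Lib.Helper29.BG139R10

/-! BG139 rung R12, hypothesis-free form (uses helper29's R10 for the symmetric configuration). -/

namespace Cfsg.Agent.Lib.Helper98.BG139

open Subgroup Cfsg.Agent.Lib.Helper2.BG139

variable {G : Type*} [Group G]

theorem Cfg2.no_cross0' [Finite G] (T : Texts0 G) {q p : ℕ} {M N S P : Subgroup G}
    (h : Cfg2 q p M N S P)
    {y : G} (hy : y ∈ M ⊓ centralizer (P : Set G))
    (hs : orderOf y ∈ Cfsg.beta N) : False :=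
  Cfg2.no_cross0 T h (Cfsg.Agent.Lib.Helper29.BG139.Cfg2.cent_SP_eq_bot0 T h.symm) hy hs

theorem Cfg2.no_cross' [Finite G] (T : Texts G) {q p : ℕ} {M N S P : Subgroup G}
    (h : Cfg2 q p M N S P)
    {y : G} (hy : y ∈ M ⊓ centralizer (P : Set G))
    (hs : orderOf y ∈ Cfsg.beta N) : False :=
  Cfg2.no_cross0' T.to0 h hy hs

end Cfsg.Agent.Lib.Helper98.BG139
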