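import Mathlib
import Cfsg.Agent.Lib.Helper28.BG12b
import Cfsg.Agent.Lib.Helper30.CNLocal2
import Cfsg.Agent.Lib.Helper68.BG10F

/-!
Rung FH1 of the ladder for Bender-Glauberman Theorem 15.2 (statement S1437): `M_F ≤ M_σ`.
-/

set_option autoImplicit false

namespace Cfsg.Agent.Lib.Helper98.BG152

open Subgroup Cfsg Cfsg.Agent.Lib.Helper30

variable {G : Type*} [Group G] [Finite G]

/-- a Sylow subgroup of a nilpotent subgroup `K` is normalized by `N(K)`. -/
theorem normalizer_le_normalizer_sylowIn {p : ℕ} [Fact p.Prime] {P K : Subgroup G}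
    (hK : Group.IsNilpotent K) (hP : IsSylowIn p P K) :
    normalizer (K : Set G) ≤ normalizer (P : Set G) := by
  intro g hg
  apply mem_normalizer_of_cj_eq
  have h1 : IsSylowIn p (cj g P) K := by
    have := hP.cj g
    rwa [cj_eq_of_mem_normalizer hg] at this
  obtain ⟨k, hk, hkP⟩ := hP.conj h1
  obtain ⟨P', hP'⟩ := hP.exists_sylow
  have hn := sylow_normal_of_nilpotent hK P'
  have h2 : K ≤ normalizer (P : Set G) := by
    rw [← hP']; exact Cfsg.Agent.Lib.Helper28.le_normalizer_map_subtype hn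
  rw [hkP, cj_eq_of_mem_normalizer (h2 hk)]

/-- the primes of a normal nilpotent Hall subgroup of `M` lie in `σ(M)`. -/
theorem mem_sigma_of_dvd_normal_nilpotent_hall (hG : Cfsg.IsMinSimpleOddOrder G) {M : Subgroup G}
    (hM : IsCoatom M) {N : Subgroup G} (hNM : N ≤ M) (hMN : M ≤ normalizer (N : Set G))
    (hnil : Group.IsNilpotent N) (hcop : (Nat.card N).Coprime (N.relIndex M)) {p : ℕ}
    (hp : p.Prime) (hpN : p ∣ Nat.card N) : p ∈ Cfsg.sigma M := by
  have : Fact p.Prime := ⟨hp⟩
  obtain ⟨P, hP⟩ := exists_isSylowIn p N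
  have hMP : M ≤ normalizer (P : Set G) := hMN.trans (normalizer_le_normalizer_sylowIn hnil hP)
  have hPM : P ≤ M := hP.le.trans hNM
  have hP1 : P ≠ ⊥ := by
    rintro rfl
    apply hP.not_dvd
    rwa [relIndex_bot_left]
  have hPs : IsSylowIn p P M := by
    refine ⟨hPM, hP.isPGroup, ?_⟩
    rw [← relIndex_mul_relIndex P N M hP.le hNM]
    intro hd
    rcases (Nat.Prime.dvd_mul hp).mp hd with h | h
    · exact hP.not_dvd h
    · exact hp.one_lt.ne' (Nat.eq_one_of_dvd_coprimes hcop hpN h)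
  have hN := normalizer_eq_of_coatom hG hM hP1 hPM hMP
  exact Cfsg.Agent.Lib.Helper68.mem_sigma_of_normalizer_le hPs hP1 hN.le

theorem fittingHallOf_le_sigmaCore (hG : Cfsg.IsMinSimpleOddOrder G) {M : Subgroup G}
    (hM : IsCoatom M) : Cfsg.fittingHallOf M ≤ Cfsg.sigmaCore M := by
  unfold Cfsg.fittingHallOf Cfsg.sigmaCore Cfsg.fittingHall Cfsg.piCore
  apply Subgroup.map_mono
  apply sSup_le_sSup
  rintro N ⟨hNn, hNnil, hNcop⟩
  refine ⟨hNn, ?_⟩
  intro p hp hpN
  have hcard : Nat.card (N.map M.subtype) = Nat.card N :=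
    card_map_of_injective M.subtype_injective
  have hrel : (N.map M.subtype).relIndex M = N.index := by
    rw [relIndex, subgroupOf, comap_map_eq_self_of_injective M.subtype_injective]
  have hnil : Group.IsNilpotent ↥(N.map M.subtype) :=
    Group.nilpotent_of_mulEquiv (N.equivMapOfInjective M.subtype M.subtype_injective)
  exact mem_sigma_of_dvd_normal_nilpotent_hall hG hM (map_subtype_le N)
    (Cfsg.Agent.Lib.Helper28.le_normalizer_map_subtype hNn) hnil (by rw [hcard, hrel]; exact hNcop)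
    hp (by rw [hcard]; exact hpN)

end Cfsg.Agent.Lib.Helper98.BG152
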