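import Mathlib
import Cfsg.Agent.Lib.Helper28.BG12b
import Cfsg.Agent.Lib.Helper68.BG10F

/-!
Rung U0 of the ladder for Bender-Glauberman Theorem 15.2 (statement S1437).
-/

set_option autoImplicit false

namespace Cfsg.Agent.Lib.Helper98.BG152

open Subgroup Cfsg Cfsg.Agent.Lib.Helper30

variable {G : Type*} [Group G] [Finite G]

omit [Finite G] in
theorem coatom_ne_bot' (hG : Cfsg.IsMinSimpleOddOrder G) {M : Subgroup G} (hM : IsCoatom M) :
    M ≠ ⊥ := by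
  rintro rfl
  apply hG.2.2.1
  have h : ∀ x : G, x ≠ 1 → zpowers x = ⊤ := fun x hx =>
    hM.2 _ (bot_lt_iff_ne_bot.mpr (by rwa [Ne, zpowers_eq_bot]))
  refine ⟨⟨fun a b => ?_⟩⟩
  by_cases ha : a = 1
  · subst ha; simp
  have hb : b ∈ zpowers a := by rw [h a ha]; trivial
  obtain ⟨k, rfl⟩ := mem_zpowers_iff.mp hb
  exact ((Commute.refl a).zpow_right k).eq

theorem decomposition_of_all (hG : Cfsg.IsMinSimpleOddOrder G) {M K U : Subgroup G}
    (hM : IsCoatom M) (hKU : Cfsg.IsSigmaDecomposition M K U)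
    (hall : ∀ p : ℕ, p.Prime → p ∣ Nat.card M → p ∈ Cfsg.sigma M ∪ Cfsg.kappa M) :
    U = ⊥ ∧ K ≠ ⊥ ∧ Cfsg.IsComplIn K (Cfsg.sigmaCore M) M ∧
      (Nat.card K).Coprime (Nat.card (Cfsg.sigmaCore M)) := by
  have hS := Cfsg.Agent.Lib.Helper28.BG12.sigmaCore_hall hG hM
  have hK := hKU.hall
  have hdisj : ∀ p : ℕ, p ∈ Cfsg.kappa M → p ∉ Cfsg.sigma M := fun p hp => hp.2.2.1
  have hcop : (Nat.card K).Coprime (Nat.card (Cfsg.sigmaCore M)) :=
    Nat.coprime_of_dvd (fun k hk h1 h2 => hdisj k (hK.2.1 k hk h1) (hS.2.1 k hk h2))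
  have hU : U = ⊥ := by
    rw [← card_eq_one]
    by_contra hne
    obtain ⟨r, hr, hrU⟩ := Nat.exists_prime_and_dvd hne
    have hrM : r ∣ Nat.card M := hrU.trans (card_dvd_of_le hKU.compl.1)
    rw [Cfsg.Agent.Lib.Helper28.BG12.card_compl hKU.compl] at hrU
    rcases hall r hr hrM with h | h
    · exact hS.2.2 r hr h (hrU.trans (relIndex_dvd_of_le_left M le_sup_right))
    · exact hK.2.2 r hr h (hrU.trans (relIndex_dvd_of_le_left M le_sup_left))
  have hKhall : Cfsg.IsPiHallOf (Cfsg.sigma M)ᶜ K M := by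
    refine ⟨hK.1, fun r hr hrK => hdisj r (hK.2.1 r hr hrK), ?_⟩
    intro r hr hrs hrd
    have hrM : r ∣ Nat.card M := hrd.trans (relIndex_dvd_card K M)
    rcases hall r hr hrM with h | h
    · exact hrs h
    · exact hK.2.2 r hr h hrd
  have hK1 : K ≠ ⊥ := by
    rintro rfl
    obtain ⟨r, hr, hrM, hrs⟩ := Cfsg.Agent.Lib.Helper68.exists_prime_not_mem_sigma hG
      (Cfsg.Agent.Lib.Helper28.BG12.ut hG) hM (coatom_ne_bot' hG hM)
    apply hKhall.2.2 r hr hrs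
    rwa [relIndex_bot_left]
  exact ⟨hU, hK1, Cfsg.Agent.Lib.Helper28.BG12.isComplIn_of_isPiHallOf hG hM hKhall, hcop⟩

end Cfsg.Agent.Lib.Helper98.BG152
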