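import Cfsg.Agent.Lib.Helper53.JC2Defs
import Cfsg.Agent.Lib.Helper53.JCAll
import Cfsg.Agent.Lib.Helper53.WeakClosed

set_option autoImplicit false

/-! Ladder JC2, rung EXCL: the elementary abelian case of the amalgam theorem cannot occur
for a `Bad` pair. -/

namespace Cfsg.Agent.Lib.Helper98.JC2

open Cfsg Subgroup Cfsg.Agent.Lib.Helper53 Cfsg.Agent.Lib.Helper53.JC Cfsg.Agent.Lib.Helper53.JC2

variable {G : Type*} [Group G]

theorem mul_mem_of_relIndex_two {A B : Subgroup G} (h : A.relIndex B = 2) {a b : G}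
    (ha : a ∈ B) (hb : b ∈ B) (ha' : a ∉ A) (hb' : b ∉ A) : a * b ∈ A := by
  have h1 := Subgroup.mul_mem_iff_of_index_two (H := A.subgroupOf B) h
    (a := ⟨a, ha⟩) (b := ⟨b, hb⟩)
  simp only [mem_subgroupOf, Subgroup.coe_mul] at h1
  exact h1.2 ⟨fun h => absurd h ha', fun h => absurd h hb'⟩

theorem comm_of_sq {a b : G} (ha : a * a = 1) (hb : b * b = 1) (hab : (a * b) * (a * b) = 1) :
    a * b = b * a := by
  have h1 : a⁻¹ = a := inv_eq_of_mul_eq_one_left ha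
  have h2 : b⁻¹ = b := inv_eq_of_mul_eq_one_left hb
  have h3 : (a * b)⁻¹ = a * b := inv_eq_of_mul_eq_one_left hab
  rw [mul_inv_rev, h1, h2] at h3
  exact h3.symm

/-- index of `O₂(P)` in a Sylow 2-subgroup when `|P : O₂(P)| = 6`. -/
theorem relIndex_two_of_six [Finite G] {V T P : Subgroup G} (hVT : V ≤ T) (hT : IsSylowTwoIn T P)
    (h6 : V.relIndex P = 6) : V.relIndex T = 2 := by
  have h1 := relIndex_mul_relIndex V T P hVT hT.1
  rw [h6] at h1
  obtain ⟨n, hn⟩ := IsPGroup.iff_card.mp hT.2.1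
  have h2 : V.relIndex T ∣ 2 ^ n := hn ▸ relIndex_dvd_card V T
  obtain ⟨k, -, hk⟩ := (Nat.dvd_prime_pow Nat.prime_two).mp h2
  obtain ⟨m, hm⟩ := hT.2.2
  rw [hk] at h1 ⊢
  rw [hm] at h1
  rcases k with _ | _ | k
  · omega
  · rfl
  · exfalso
    rw [pow_succ, pow_succ] at h1
    have : 2 ^ k * 2 * 2 * (2 * m + 1) = 4 * (2 ^ k * (2 * m + 1)) := by ring
    omega

/-- The local configuration: `V` elementary abelian, self-centralizing, of index 2 in `T`;
`x` normalizes `T`, `x²` normalizes `V`, `x` does not. -/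
structure Loc2 (V T : Subgroup G) (x : G) : Prop where
  le : V ≤ T
  ind : V.relIndex T = 2
  exp : ∀ g ∈ V, g * g = 1
  cen : centralizer (V : Set G) ≤ V
  xT : x ∈ normalizer (T : Set G)
  xx : x * x ∈ normalizer (V : Set G)
  xV : x ∉ normalizer (V : Set G)

namespace Loc2

variable {V T : Subgroup G} {x : G}

theorem comm (h : Loc2 V T x) {a b : G} (ha : a ∈ V) (hb : b ∈ V) : a * b = b * a :=
  comm_of_sq (h.exp a ha) (h.exp b hb) (h.exp _ (V.mul_mem ha hb))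

theorem conj_mem_T (h : Loc2 V T x) {a : G} : x⁻¹ * a * x ∈ T ↔ a ∈ T := by
  have := (mem_normalizer_iff.mp (inv_mem h.xT) a)
  rw [inv_inv] at this
  exact this.symm

theorem conj_mem_T' (h : Loc2 V T x) {a : G} : x * a * x⁻¹ ∈ T ↔ a ∈ T :=
  (mem_normalizer_iff.mp h.xT a).symm

theorem le2 (h : Loc2 V T x) : cjj x V ≤ T := by
  intro a ha
  rw [mem_cj] at ha
  exact h.conj_mem_T.mp (h.le ha)

theorem exp2 (h : Loc2 V T x) {a : G} (ha : a ∈ cjj x V) : a * a = 1 := by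
  rw [mem_cj] at ha
  have := h.exp _ ha
  have e : x⁻¹ * a * x * (x⁻¹ * a * x) = x⁻¹ * (a * a) * x := by group
  rw [e] at this
  have e2 : a * a = x * (x⁻¹ * (a * a) * x) * x⁻¹ := by group
  rw [e2, this]; group

theorem comm2 (h : Loc2 V T x) {a b : G} (ha : a ∈ cjj x V) (hb : b ∈ cjj x V) :
    a * b = b * a :=
  comm_of_sq (h.exp2 ha) (h.exp2 hb) (h.exp2 ((cjj x V).mul_mem ha hb))

theorem ind1 (h : Loc2 V T x) {a b : G} (ha : a ∈ T) (hb : b ∈ T) (ha' : a ∉ V) (hb' : b ∉ V) :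
    a * b ∈ V := mul_mem_of_relIndex_two h.ind ha hb ha' hb'

theorem ind2 (h : Loc2 V T x) {a b : G} (ha : a ∈ T) (hb : b ∈ T) (ha' : a ∉ cjj x V)
    (hb' : b ∉ cjj x V) : a * b ∈ cjj x V := by
  rw [mem_cj] at ha' hb' ⊢
  have := h.ind1 (h.conj_mem_T.mpr ha) (h.conj_mem_T.mpr hb) ha' hb'
  have e : x⁻¹ * (a * b) * x = x⁻¹ * a * x * (x⁻¹ * b * x) := by group
  rw [e]; exact this

theorem cj_cj_eq (h : Loc2 V T x) : cjj x (cjj x V) = V := by
  exact (cj_cj V x x).trans (cj_eq_self_iff.mpr h.xx)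

theorem exists_two [Finite G] (h : Loc2 V T x) : ∃ v, v ∈ cjj x V ∧ v ∉ V := by
  by_contra hcon
  push Not at hcon
  exact h.xV (cj_eq_self_iff.mp (cj_eq_of_le (fun v hv => hcon v hv)))

/-- elements of `V \ V^x` and `V^x \ V` never commute. -/
theorem not_comm (h : Loc2 V T x) {a b : G} (ha : a ∈ V) (ha' : a ∉ cjj x V) (hb : b ∈ cjj x V)
    (hb' : b ∉ V) : a * b ≠ b * a := by
  intro hab
  apply hb'
  apply h.cen
  rw [mem_centralizer_iff]
  intro c hc
  by_cases hc2 : c ∈ cjj x V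
  · exact h.comm2 hc2 hb
  · have h1 := h.ind2 (h.le hc) (h.le ha) hc2 ha'
    have h2 := h.comm2 h1 hb
    -- `c a b = b c a`, `a b = b a`
    have h3 : c * b * a = b * c * a := by
      calc c * b * a = c * (a * b) := by rw [hab, mul_assoc]
        _ = c * a * b := by rw [mul_assoc]
        _ = b * (c * a) := h2
        _ = b * c * a := by rw [mul_assoc]
    exact mul_right_cancel h3

/-- every involution of `T` lies in `V ∪ V^x`. -/
theorem invol [Finite G] (h : Loc2 V T x) {u : G} (hu : u ∈ T) (hu2 : u * u = 1) :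
    u ∈ V ∨ u ∈ cjj x V := by
  by_contra hcon
  push Not at hcon
  obtain ⟨v, hv, hv'⟩ := h.exists_two
  have h1 := h.ind1 hu (h.le2 hv) hcon.1 hv'
  have hvv := h.exp2 hv
  have h2 : u * v ∉ cjj x V := by
    intro h3
    apply hcon.2
    have := (cjj x V).mul_mem h3 hv
    rwa [mul_assoc, hvv, mul_one] at this
  apply h.not_comm h1 h2 hv hv'
  -- `u v v = u`, `v u v`: need `u = v u v`
  have h4 := h.exp _ h1
  -- `u v u v = 1`
  have h5 : u * v = v * u := comm_of_sq hu2 hvv h4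
  rw [mul_assoc, hvv, mul_one, ← mul_assoc, ← h5, mul_assoc, hvv, mul_one]

/-- the centre of `T` contains `V ⊓ V^x`. -/
theorem central [Finite G] (h : Loc2 V T x) {v : G} (h1 : v ∈ V) (h2 : v ∈ cjj x V) :
    v ∈ centralizer (T : Set G) := by
  rw [mem_centralizer_iff]
  intro t ht
  by_cases ht1 : t ∈ V
  · exact h.comm ht1 h1
  · obtain ⟨w, hw, hw'⟩ := h.exists_two
    have h3 := h.ind1 ht (h.le2 hw) ht1 hw'
    have h4 := h.comm h3 h1
    have h5 := h.comm2 hw h2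
    have h6 : t * v * w = v * t * w := by
      calc t * v * w = t * (w * v) := by rw [h5, mul_assoc]
        _ = t * w * v := by rw [mul_assoc]
        _ = v * (t * w) := h4
        _ = v * t * w := by rw [mul_assoc]
    exact mul_right_cancel h6

/-- An abelian subgroup of exponent 2 normalized by `x` meets `T` inside `V`. -/
theorem inf_le [Finite G] (h : Loc2 V T x) {W : Subgroup G}
    (hW : ∀ a ∈ W, ∀ b ∈ W, a * b = b * a) (hW2 : ∀ a ∈ W, a * a = 1)
    (hxW : x ∈ normalizer (W : Set G)) : W ⊓ T ≤ V := by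
  rintro u ⟨huW, huT⟩
  by_contra hu1
  have hu2 : u ∈ cjj x V := (h.invol huT (hW2 u huW)).resolve_left hu1
  have h1 : x * u * x⁻¹ ∈ W := (mem_normalizer_iff.mp hxW u).mp huW
  have h2 : x * u * x⁻¹ ∈ V := by
    have h0 : x * u * x⁻¹ ∈ cjj x (cjj x V) := cj_mem x hu2
    rwa [h.cj_cj_eq] at h0
  have h3 : x * u * x⁻¹ ∉ cjj x V := by
    rw [mem_cj]
    intro h4
    apply hu1
    have e : x⁻¹ * (x * u * x⁻¹) * x = u := by group
    rwa [e] at h4
  exact h.not_comm h2 h3 hu2 hu1 (hW _ h1 _ huW)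

end Loc2

theorem excl [Finite G] (zn : ZN G) {S : Sylow 2 G} {L T K L₁ : Subgroup G} (hb : Bad S L)
    (hTS : T ≤ (S : Subgroup G)) (f : AF S T K L₁) (h : Concl51 S T K L₁) (p : PPr T K L₁) {x : G}
    (hxS : x ∈ (S : Subgroup G)) (hxN : x ∈ normalizer (T : Set G)) (hx2 : x * x ∈ T)
    (hxL : x ∉ L₁) (hexp : ∀ g ∈ pCoreOf 2 (K ⊔ T), g * g = 1) : False := by
  obtain ⟨V1, hV1⟩ : ∃ V1, V1 = pCoreOf 2 (K ⊔ T) := ⟨_, rfl⟩
  have hsylP : IsSyl 2 T (K ⊔ T) := isSylowTwoIn_iff.1 p.syl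
  have hV1T : V1 ≤ T := hV1 ▸ pCoreOf_le_isSyl hsylP
  have hPN : K ⊔ T ≤ normalizer (V1 : Set G) := hV1 ▸ le_normalizer_pCoreOf 2 _
  have hcen : centralizer (V1 : Set G) ≤ V1 := hV1 ▸ p.cen
  have hV1ne : V1 ≠ ⊥ := by
    intro e
    apply f.hT1
    rw [eq_bot_iff, ← e]
    intro t _
    apply hcen
    rw [mem_centralizer_iff]
    intro c hc
    rw [e] at hc
    have hc1 : c = 1 := hc
    rw [hc1, one_mul, mul_one]
  have hNL : normalizer (V1 : Set G) ≤ L₁ :=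
    f.a1 _ ⟨V1, hV1 ▸ pCoreOf_isPGroup 2 _, hV1ne, rfl⟩ ((sup_le_sup_left (JJ_le T) K).trans hPN)
  have loc : Loc2 V1 T x :=
    { le := hV1T
      ind := relIndex_two_of_six hV1T p.syl (hV1 ▸ p.h6)
      exp := hV1 ▸ hexp
      cen := hcen
      xT := hxN
      xx := hPN (le_sup_right (a := K) hx2)
      xV := fun h => hxL (hNL h) }
  have hNS : (S : Subgroup G) ⊓ normalizer (V1 : Set G) ≤ T :=
    (f.a9 _ (S.isPGroup'.to_inf_left) (le_inf hTS (le_sup_right.trans hPN))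
      (inf_le_right.trans hNL)).le
  obtain ⟨hL2, hLj, hLmax⟩ := hb
  obtain ⟨hSL, hJS, hcL⟩ := hLj
  obtain ⟨V, hV⟩ : ∃ V, V = VVL L := ⟨_, rfl⟩
  have hVn : L ≤ normalizer (V : Set G) :=
    hV ▸ (le_normalizer_pCoreOf 2 L).trans (normalizer_le_normalizer_omegaCenterOf _)
  have hVPE : Helper15.ZJ.PE 2 V := hV ▸ omegaCenterOf_PE (pCoreOf 2 L)
  have hV2 : ∀ a ∈ V, a * a = 1 := fun a ha => by rw [← pow_two]; exact hVPE.2 a ha
  have hVS : V ≤ S := hV ▸ (omegaCenterOf_le _).trans (pCoreOf_le_isSyl (isSylowTwoIn_iff.1 hSL))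
  have hxV : x ∈ normalizer (V : Set G) := hVn (hSL.1 hxS)
  have hVT : V ⊓ T ≤ V1 := loc.inf_le hVPE.1 hV2 hxV
  -- `V ≤ V1`
  have hVV1 : V ≤ V1 := by
    by_contra hcon
    have hV1n : V1 ≤ normalizer (V : Set G) := (hV1T.trans hTS).trans (hSL.1.trans hVn)
    have hlt : V1 < V ⊔ V1 := lt_of_le_of_ne le_sup_right (fun e => hcon (e ▸ le_sup_left))
    have hD : IsPGroup 2 ↥(V ⊔ V1) := S.isPGroup'.to_le (sup_le hVS (hV1T.trans hTS))
    obtain ⟨w, hw, hw'⟩ := SetLike.exists_of_lt (lt_inf_normalizer hD hlt)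
    obtain ⟨v, hv, v1, hv1, rfl⟩ := (mem_sup_of_le_normalizer' hV1n).mp hw.1
    apply hw'
    have hwT : v * v1 ∈ T := hNS ⟨sup_le hVS (hV1T.trans hTS) hw.1, hw.2⟩
    have hvT : v ∈ T := by
      have := T.mul_mem hwT (T.inv_mem (hV1T hv1))
      rwa [mul_assoc, mul_inv_cancel, mul_one] at this
    exact V1.mul_mem (hVT ⟨hv, hvT⟩) hv1
  have hVV2 : V ≤ cjj x V1 := by
    intro v hv
    rw [mem_cj]
    apply hVV1
    have := (mem_normalizer_iff.mp (inv_mem hxV) v).mp hv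
    rwa [inv_inv] at this
  have hVZ0 : V ≤ omegaCenterOf (JJ T) := by
    intro v hv
    apply f.a4'
    exact mem_omegaCenterOf (hV1T (hVV1 hv)) (loc.central (hVV1 hv) (hVV2 hv)) (hVPE.2 v hv)
  obtain ⟨-, hZV, hCN, hSC, -, -⟩ := zn_core1 zn (S : Subgroup G) L S.isPGroup' ⟨hSL, hJS, hcL⟩
  rw [← hV] at hZV
  -- `S` is not normal in `L`
  have hSnot : ¬ L ≤ normalizer ((S : Subgroup G) : Set G) := fun hn =>
    hJS ((JJ_le _).trans (le_pCoreOf hSL.1 hn S.isPGroup'))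
  have hZneV : omegaCenterOf (S : Subgroup G) ≠ V := by
    intro e
    apply hJS
    refine (JJ_le _).trans (le_trans ?_ hSC.le)
    refine le_inf le_rfl (le_inf hSL.1 ?_)
    show (S : Subgroup G) ≤ centralizer ((VVL L : Subgroup G) : Set G)
    rw [← hV, ← e]
    exact le_centralizer_iff.mp (omegaCenterOf_le_centralizer _)
  obtain ⟨-, hcase⟩ := h
  have hc4 : Nat.card ↥(omegaCenterOf (JJ T)) = 4 := by
    rcases hcase with ⟨e, -⟩ | ⟨e, -, -⟩ | ⟨-, h4, -⟩
    · exact absurd (le_antisymm hZV (e ▸ hVZ0)) hZneV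
    · exact absurd (le_antisymm hZV (e ▸ hVZ0)) hZneV
    · exact h4
  obtain ⟨Z0, hZ0⟩ : ∃ Z0, Z0 = omegaCenterOf (JJ T) := ⟨_, rfl⟩
  rw [← hZ0] at hc4 hVZ0
  obtain ⟨z, hzZ, hzK⟩ := SetLike.not_le_iff_exists.mp (f.a6 K f.jc)
  have hcY : Nat.card ↥(Z0 ⊓ centralizer (K : Set G)) = 2 := by
    have := f.a5 K f.jc
    rw [← hZ0] at this
    omega
  have hYind : (Z0 ⊓ centralizer (K : Set G)).relIndex Z0 = 2 := by
    have := relIndex_mul_relIndex ⊥ _ _ bot_le (inf_le_left : Z0 ⊓ centralizer (K : Set G) ≤ Z0)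
    rw [relIndex_bot_left, relIndex_bot_left, hcY, hc4] at this
    omega
  obtain ⟨⟨y, hyY⟩, hy1, hyu⟩ := (Nat.card_eq_two_iff' (1 : ↥(Z0 ⊓ centralizer (K : Set G)))).mp hcY
  have hy1' : y ≠ 1 := fun e => hy1 (Subtype.ext e)
  have hYel : ∀ w ∈ Z0 ⊓ centralizer (K : Set G), w = 1 ∨ w = y := by
    intro w hw
    by_cases hw1 : w = 1
    · exact Or.inl hw1
    · right
      have := hyu ⟨w, hw⟩ (fun e => hw1 (congrArg Subtype.val e))
      exact congrArg Subtype.val this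
  have hzz : z * z = 1 := hV2 z (hZV hzZ)
  have hzZ0 : z ∈ Z0 := hVZ0 (hZV hzZ)
  have hz1 : z ≠ 1 := fun e => hzK (e ▸ one_mem _)
  have hZ0el : ∀ w ∈ Z0, w = 1 ∨ w = z ∨ w = y ∨ w = z * y := by
    intro w hw
    by_cases hwY : w ∈ Z0 ⊓ centralizer (K : Set G)
    · rcases hYel w hwY with e | e
      · exact Or.inl e
      · exact Or.inr (Or.inr (Or.inl e))
    · have h1 := mul_mem_of_relIndex_two hYind hzZ0 hw (fun h => hzK h.2) hwY
      have e0 : w = z * (z * w) := by rw [← mul_assoc, hzz, one_mul]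
      rcases hYel _ h1 with e | e
      · right; left
        rw [e0, e, mul_one]
      · right; right; right
        rw [e0, e]
  have hyC : centralizer {y} ≤ L₁ := f.a3 y (hZ0 ▸ hyY.1) hyY.2 hy1'
  have hxy0 : x * y ≠ y * x := by
    intro e
    apply hxL
    apply hyC
    rw [mem_centralizer_singleton_iff]
    exact e
  have hyZ : y ∉ omegaCenterOf (S : Subgroup G) := by
    intro hy
    exact hxy0 (mem_centralizer_iff.mp (omegaCenterOf_le_centralizer _ hy) x hxS)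
  have hZel : ∀ w ∈ omegaCenterOf (S : Subgroup G), w = 1 ∨ w = z := by
    intro w hw
    rcases hZ0el w (hVZ0 (hZV hw)) with e | e | e | e
    · exact Or.inl e
    · exact Or.inr e
    · exact absurd (e ▸ hw) hyZ
    · exfalso
      apply hyZ
      have := mul_mem hzZ hw
      rwa [e, ← mul_assoc, hzz, one_mul] at this
  obtain ⟨l, hl, hlz⟩ : ∃ l ∈ L, l * z * l⁻¹ ≠ z := by
    by_contra hcon
    push Not at hcon
    apply hSnot
    refine le_trans (le_inf le_rfl ?_) hCN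
    intro l hl
    rw [mem_centralizer_iff]
    intro w hw
    rcases hZel w hw with rfl | rfl
    · rw [one_mul, mul_one]
    · have := hcon l hl
      rw [mul_inv_eq_iff_eq_mul] at this
      exact this.symm
  have hw : l * z * l⁻¹ ∈ V := (mem_normalizer_iff.mp (hVn hl) z).mp (hZV hzZ)
  have hxZ0 : x ∈ normalizer (Z0 : Set G) :=
    hZ0 ▸ normalizer_le_normalizer_omegaCenterOf _ (normalizer_le_normalizer_JJ T hxN)
  have hxz : x * z = z * x := mem_centralizer_iff.mp (omegaCenterOf_le_centralizer _ hzZ) x hxS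
  have hxy : x * y * x⁻¹ = z * y := by
    rcases hZ0el _ ((mem_normalizer_iff.mp hxZ0 y).mp hyY.1) with e | e | e | e
    · exfalso
      apply hy1'
      rw [mul_inv_eq_iff_eq_mul, one_mul] at e
      exact mul_left_cancel (e.trans (mul_one x).symm)
    · exfalso
      rw [mul_inv_eq_iff_eq_mul, ← hxz] at e
      exact hzK ((mul_left_cancel e) ▸ hyY.2)
    · exfalso
      rw [mul_inv_eq_iff_eq_mul] at e
      exact hxy0 e
    · exact e
  obtain ⟨g, hg⟩ : ∃ g, g * z * g⁻¹ = y := by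
    rcases hZ0el _ (hVZ0 hw) with e | e | e | e
    · exfalso
      apply hz1
      rw [mul_inv_eq_iff_eq_mul, one_mul] at e
      exact mul_left_cancel (e.trans (mul_one l).symm)
    · exact absurd e hlz
    · exact ⟨l, e⟩
    · refine ⟨x⁻¹ * l, ?_⟩
      have e1 : x⁻¹ * l * z * (x⁻¹ * l)⁻¹ = x⁻¹ * (l * z * l⁻¹) * x := by group
      rw [e1, e, ← hxy]
      group
  have hgS : cjj g (S : Subgroup G) ≤ L₁ := by
    refine le_trans ?_ hyC
    rintro _ ⟨s, hs, rfl⟩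
    rw [mem_centralizer_singleton_iff, ← hg]
    have hsz : s * z = z * s := mem_centralizer_iff.mp (omegaCenterOf_le_centralizer _ hzZ) s hs
    show g * s * g⁻¹ * (g * z * g⁻¹) = g * z * g⁻¹ * (g * s * g⁻¹)
    have e1 : g * s * g⁻¹ * (g * z * g⁻¹) = g * (s * z) * g⁻¹ := by group
    have e2 : g * z * g⁻¹ * (g * s * g⁻¹) = g * (z * s) * g⁻¹ := by group
    rw [e1, e2, hsz]
  have hsylL : IsSyl 2 T L₁ := isSylowTwoIn_iff.1 f.syl
  obtain ⟨P', hP', hle⟩ := exists_isSyl_ge hgS (isPGroup_cj S.isPGroup' g)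
  obtain ⟨k, -, rfl⟩ := hsylL.exists_conj hP'
  have hcard : Nat.card (S : Subgroup G) ≤ Nat.card T := by
    have := Subgroup.card_le_of_le hle
    rwa [card_cj, card_cj] at this
  have hTeq : T = S := eq_of_le_of_card_ge hTS hcard
  exact hxL (f.syl.1 (hTeq ▸ hxS))

end Cfsg.Agent.Lib.Helper98.JC2
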