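import Mathlib
import Cfsg.Agent.Lib.Helper11.AltP.Basic

set_option autoImplicit false

/-! Ladder ALTP, rung S1. -/

namespace Cfsg.Agent.Lib.Helper11.AltP

open Equiv Cfsg.Agent.Lib.Helper98

variable {Ω : Type*} [Fintype Ω] [DecidableEq Ω]

/-- RUNG S1. -/
theorem exists_sigma {b : ℕ} (hb : 3 ≤ b) (f : Ω → Fin b)
    (hf : ∀ i : Fin b, Nat.card {x : Ω // f x = i} = 2) (L : Subgroup (Perm Ω))
    (hHL : partStab f ⊓ alternatingGroup Ω ≤ L) (hL : ¬ L ≤ partStab f) :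
    ∃ p q u v : Ω, f p ≠ f q ∧ u ≠ v ∧ u ≠ q ∧ v ≠ q ∧ f u ≠ f p ∧ f v ≠ f p ∧
      swap p q * swap u v ∈ L := by
  obtain ⟨k, hk, x, x', hxx, hkx⟩ : ∃ k ∈ L, ∃ x x' : Ω, f x = f x' ∧ f (k x) ≠ f (k x') := by
    obtain ⟨g, hgL, hg⟩ := SetLike.not_le_iff_exists.mp hL
    rw [mem_partStab] at hg
    push Not at hg
    obtain ⟨x, y, hxy⟩ := hg
    rcases hxy with ⟨h1, h2⟩ | ⟨h1, h2⟩
    · exact ⟨g, hgL, x, y, h1, h2⟩
    · exact ⟨g⁻¹, L.inv_mem hgL, g x, g y, h2, by simpa using h1⟩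
  have hne : x' ≠ x := fun e => hkx (by rw [e])
  obtain ⟨p', hp'p, hfp'⟩ := exists_other (le_refl 2) f hf (k x)
  obtain ⟨w, hw⟩ : ∃ w, k w = p' := ⟨k⁻¹ p', by simp⟩
  have hwx : w ≠ x := fun e => hp'p (by rw [← hw, e])
  have hwx' : w ≠ x' := fun e => hkx (by rw [← hfp', ← hw, e])
  have hfw : f w ≠ f x := by
    intro e
    rcases fibre_two f hf hne hxx.symm e with h | h
    · exact hwx h
    · exact hwx' h
  obtain ⟨j, hj1, hj2⟩ := exists_index_ne₂ hb (f x) (f w)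
  obtain ⟨y, y', hyy, hy, hy'⟩ := exists_pair (le_refl 2) f hf j
  have aux : ∀ t : Ω, f t = j → k t ≠ k x' ∧ f (k t) ≠ f (k x) := by
    intro t ht
    refine ⟨fun e => hj1 (by rw [← ht, k.injective e, hxx]), fun e => ?_⟩
    rcases fibre_two f hf hp'p hfp' e with h | h
    · exact hj1 (by rw [← ht, k.injective h])
    · exact hj2 (by rw [← ht, k.injective (h.trans hw.symm)])
  refine ⟨k x, k x', k y, k y', hkx, fun e => hyy (k.injective e), (aux y hy).1, (aux y' hy').1,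
    (aux y hy).2, (aux y' hy').2, ?_⟩
  have hmem : swap x x' * swap y y' ∈ L :=
    hHL (swap_mul_swap_mem hne.symm hxx hyy (hy.trans hy'.symm))
  have e : swap (k x) (k x') * swap (k y) (k y') = k * (swap x x' * swap y y') * k⁻¹ := by
    rw [swap_apply_apply, swap_apply_apply]; group
  rw [e]
  exact L.mul_mem (L.mul_mem hk hmem) (L.inv_mem hk)

end Cfsg.Agent.Lib.Helper11.AltP
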