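import Cfsg.Agent.Lib.Helper2.BG139B

/-!
Rung R12 of the ladder BG139 (Bender-Glauberman 13.9, statement S1378).  The conclusion of rung R10
(for the symmetric configuration) appears as an explicit hypothesis.
-/

set_option autoImplicit false
set_option linter.unusedSectionVars false

namespace Cfsg.Agent.Lib.Helper98.BG139

open Subgroup Cfsg.Agent.Lib.Helper30 Cfsg.Agent.Lib.Helper2 Cfsg.Agent.Lib.Helper2.BG12
  Cfsg.Agent.Lib.Helper68 Cfsg.Agent.Lib.Helper2.BG139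

universe u

variable {G : Type u} [Group G]

theorem isSylowIn_sup_right [Finite G] {q : ℕ} [Fact q.Prime] {N A : Subgroup G}
    (hAN : A ≤ normalizer (N : Set G)) (hA : IsPGroup q A) (hNq : (Nat.card N).Coprime q) :
    IsSylowIn q A (N ⊔ A) := by
  refine ⟨le_sup_right, hA, ?_⟩
  intro hd
  have h1 := Cfsg.Agent.Lib.Helper12.card_sup_mul_card_inf' A N hAN
  have h2 := card_eq_card_mul_relIndex (le_sup_right : A ≤ N ⊔ A)
  rw [sup_comm] at h1
  have h3 : A.relIndex (N ⊔ A) ∣ Nat.card N := by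
    have h4 : Nat.card A * (A.relIndex (N ⊔ A) * Nat.card (A ⊓ N : Subgroup G)) =
        Nat.card A * Nat.card N := by
      rw [← h1, h2]; ring
    have h5 := Nat.eq_of_mul_eq_mul_left Nat.card_pos h4
    exact Dvd.intro _ h5
  have h6 := Nat.Coprime.eq_one_of_dvd hNq.symm (hd.trans h3)
  exact (Fact.out : q.Prime).one_lt.ne' h6

theorem Cfg2.no_cross0 [Finite G] (T : Texts0 G) {q p : ℕ} {M N S P : Subgroup G}
    (h : Cfg2 q p M N S P)
    (hc : Cfsg.piCoreOf (Cfsg.beta N) N ⊓ centralizer (S : Set G) ⊓ centralizer (P : Set G) = ⊥)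
    {y : G} (hy : y ∈ M ⊓ centralizer (P : Set G))
    (hs : orderOf y ∈ Cfsg.beta N) : False := by
  have hpF : Fact p.Prime := ⟨h.hpp⟩
  have hqF : Fact q.Prime := ⟨h.hqM.1⟩
  have hsp : (orderOf y).Prime := hs.1.1
  obtain ⟨hMbH, -⟩ := T.t14 M h.hM
  obtain ⟨hNbH, -⟩ := T.t14 N h.hN
  have hsM : orderOf y ∉ Cfsg.sigma M :=
    fun hsM => alpha_sigma_disjoint T.hG T.hU h.hM h.hN h.hnc hsM hs.1
  have hβσ : ∀ r, r ∈ Cfsg.beta M → r ∈ Cfsg.sigma M :=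
    fun r hr => mem_sigma_of_mem_alpha T.hG T.hU h.hM hr.1
  have hPM : P ≤ M := h.hPD.trans h.hDM
  have hYM : zpowers y ≤ M := (zpowers_le).mpr hy.1
  have hYc : Nat.card (zpowers y) = orderOf y := Nat.card_zpowers y
  have hYP : zpowers y ≤ normalizer (P : Set G) :=
    ((zpowers_le).mpr hy.2).trans (centralizer_le_normalizer _)
  have hAcard : Nat.card (zpowers y ⊔ P : Subgroup G) ∣ orderOf y * p := by
    have := Cfsg.Agent.Lib.Helper12.card_sup_mul_card_inf' (zpowers y) P hYP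
    rw [hYc, h.hP] at this
    exact Dvd.intro _ this
  have hcopMb : ∀ r : ℕ, r.Prime → r ∉ Cfsg.sigma M →
      r.Coprime (Nat.card (Cfsg.piCoreOf (Cfsg.beta M) M)) := by
    intro r hr hrσ
    rw [Nat.Prime.coprime_iff_not_dvd hr]
    intro hd
    exact hrσ (hβσ r (hMbH.2.1 r hr hd))
  have hAcop : (Nat.card (zpowers y ⊔ P : Subgroup G)).Coprime
      (Nat.card (Cfsg.piCoreOf (Cfsg.beta M) M)) :=
    Nat.Coprime.coprime_dvd_left hAcard
      (Nat.Coprime.mul_left (hcopMb _ hsp hsM) (hcopMb p h.hpp h.hpM))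
  obtain ⟨g, hgM, hgA⟩ := exists_cj_le (solvable_of_ne_top T.hG h.hM.1) hMbH.1
    (le_normalizer_piCoreOf _ _) (coprime_of_hall hMbH) h.hDM (h.toCfg.factor0 T)
    (sup_le hYM hPM) hAcop
  obtain ⟨b', hb', d', hd', hgi⟩ := h.toCfg.factor0 T g⁻¹ (M.inv_mem hgM)
  have hg : g = d'⁻¹ * b'⁻¹ := by rw [← inv_inv g, hgi, mul_inv_rev]
  have hb : b'⁻¹ ∈ Cfsg.piCoreOf (Cfsg.beta M) M := inv_mem hb'
  generalize b'⁻¹ = b at hg hb
  have hbA : cj b (zpowers y ⊔ P) ≤ normalizer (S : Set G) := by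
    have h1 := cj_mono d' hgA
    rw [← cj_mul, hg, ← mul_assoc, mul_inv_cancel, one_mul, cj_eq_of_mem hd'] at h1
    exact h1
  have hPK : P ≤ normalizer ((normalizer (S : Set G) ⊓ Cfsg.piCoreOf (Cfsg.beta M) M :
      Subgroup G) : Set G) :=
    le_normalizer_inf (h.hPD.trans le_normalizer) (hPM.trans (le_normalizer_piCoreOf _ _))
  have hKp : (Nat.card (normalizer (S : Set G) ⊓ Cfsg.piCoreOf (Cfsg.beta M) M :
      Subgroup G)).Coprime p :=
    (Nat.Coprime.coprime_dvd_right (card_dvd_of_le inf_le_right) (hcopMb p h.hpp h.hpM)).symm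
  have hPp : IsPGroup p P := IsPGroup.of_card (n := 1) (by rw [h.hP, pow_one])
  have hsyl := isSylowIn_sup_right hPK hPp hKp
  have hP'le : cj b P ≤ normalizer (S : Set G) ⊓ Cfsg.piCoreOf (Cfsg.beta M) M ⊔ P := by
    rintro _ ⟨x, hx, rfl⟩
    have hxD : b * x * b⁻¹ ∈ normalizer (S : Set G) := hbA ⟨x, le_sup_right (a := zpowers y) hx, rfl⟩
    have hm : b * x * b⁻¹ * x⁻¹ ∈ normalizer (S : Set G) ⊓ Cfsg.piCoreOf (Cfsg.beta M) M := by
      refine ⟨(normalizer (S : Set G)).mul_mem hxD ((normalizer (S : Set G)).inv_mem (h.hPD hx)), ?_⟩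
      have e : b * x * b⁻¹ * x⁻¹ = b * (x * b⁻¹ * x⁻¹) := by group
      rw [e]
      exact mul_mem hb ((mem_normalizer_iff.mp (le_normalizer_piCoreOf _ _ (hPM hx)) b⁻¹).mp
        (inv_mem hb))
    have e : (MulAut.conj b).toMonoidHom x = (b * x * b⁻¹ * x⁻¹) * x := by
      simp [MulAut.conj_apply]
    rw [e]
    exact mul_mem (le_sup_left (b := P) hm) (le_sup_right (b := P) hx)
  have hsyl' : IsSylowIn p (cj b P)
      (normalizer (S : Set G) ⊓ Cfsg.piCoreOf (Cfsg.beta M) M ⊔ P) := by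
    refine ⟨hP'le, isPGroup_cj b hPp, ?_⟩
    have e1 := card_eq_card_mul_relIndex hP'le
    have e2 := card_eq_card_mul_relIndex hsyl.le
    rw [card_cj] at e1
    have e3 := Nat.eq_of_mul_eq_mul_left Nat.card_pos (e1.symm.trans e2)
    rw [e3]
    exact hsyl.not_dvd
  obtain ⟨k, hk, hkP⟩ := hsyl.conj hsyl'
  have hkD : k ∈ normalizer (S : Set G) := (sup_le inf_le_left h.hPD) hk
  have hcP : cj (k⁻¹ * b) P = P := by rw [cj_mul, hkP, cj_inv_cj]
  obtain ⟨y1, hy1⟩ : ∃ y1, y1 = (k⁻¹ * b) * y * (k⁻¹ * b)⁻¹ := ⟨_, rfl⟩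
  have hy1D : y1 ∈ normalizer (S : Set G) := by
    have h1 : b * y * b⁻¹ ∈ normalizer (S : Set G) :=
      hbA ⟨y, le_sup_left (b := P) (mem_zpowers y), rfl⟩
    have e : y1 = k⁻¹ * (b * y * b⁻¹) * k := by rw [hy1]; group
    rw [e]
    exact mul_mem (mul_mem (inv_mem hkD) h1) hkD
  have hy1P : y1 ∈ centralizer (P : Set G) := by
    have h1 : y1 ∈ cj (k⁻¹ * b) (centralizer (P : Set G)) := ⟨y, hy.2, by rw [hy1]; rfl⟩
    rwa [← centralizer_cj, hcP] at h1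
  have hy1o : orderOf y1 = orderOf y := by
    rw [hy1]
    exact orderOf_injective (MulAut.conj (k⁻¹ * b)).toMonoidHom (MulAut.conj (k⁻¹ * b)).injective y
  have hy1N : y1 ∈ N := h.hDN hy1D
  have hY1Nb : zpowers y1 ≤ Cfsg.piCoreOf (Cfsg.beta N) N := by
    apply le_of_coprime_relIndex hNbH.1 (le_normalizer_piCoreOf _ _) ((zpowers_le).mpr hy1N)
    rw [Nat.card_zpowers, hy1o, Nat.Prime.coprime_iff_not_dvd hsp]
    exact hNbH.2.2 _ hsp hs
  have hy1Nb : y1 ∈ Cfsg.piCoreOf (Cfsg.beta N) N := hY1Nb (mem_zpowers y1)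
  have hSNb : S ⊓ Cfsg.piCoreOf (Cfsg.beta N) N = ⊥ := by
    apply Disjoint.eq_bot
    apply Subgroup.disjoint_of_coprime_natCard
    obtain ⟨n, hn⟩ := IsPGroup.iff_card.mp h.hS.isPGroup
    rw [hn]
    apply Nat.Coprime.pow_left
    rw [Nat.Prime.coprime_iff_not_dvd h.hqM.1]
    intro hd
    exact (h.toCfg.symm.not_alpha0 T).2 (hNbH.2.1 q h.hqM.1 hd).1
  have hy1S : y1 ∈ centralizer (S : Set G) := by
    rw [mem_centralizer_iff]
    intro t ht
    have h1 : y1 * t * y1⁻¹ * t⁻¹ ∈ S :=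
      S.mul_mem ((mem_normalizer_iff.mp hy1D t).mp ht) (S.inv_mem ht)
    have h2 : y1 * t * y1⁻¹ * t⁻¹ ∈ Cfsg.piCoreOf (Cfsg.beta N) N := by
      have e : y1 * t * y1⁻¹ * t⁻¹ = y1 * (t * y1⁻¹ * t⁻¹) := by group
      rw [e]
      exact mul_mem hy1Nb ((mem_normalizer_iff.mp
        (le_normalizer_piCoreOf _ _ (h.hDN (le_normalizer ht))) y1⁻¹).mp (inv_mem hy1Nb))
    have h3 : y1 * t * y1⁻¹ * t⁻¹ ∈ S ⊓ Cfsg.piCoreOf (Cfsg.beta N) N := ⟨h1, h2⟩
    rw [hSNb, mem_bot] at h3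
    have e : y1 * t = (y1 * t * y1⁻¹ * t⁻¹) * (t * y1) := by group
    rw [e, h3, one_mul]
  have hfin : y1 ∈ Cfsg.piCoreOf (Cfsg.beta N) N ⊓ centralizer (S : Set G) ⊓
      centralizer (P : Set G) := ⟨⟨hy1Nb, hy1S⟩, hy1P⟩
  rw [hc, mem_bot] at hfin
  rw [hfin, orderOf_one] at hy1o
  exact hsp.one_lt.ne hy1o

theorem Cfg2.no_cross [Finite G] (T : Texts G) {q p : ℕ} {M N S P : Subgroup G}
    (h : Cfg2 q p M N S P)
    (hc : Cfsg.piCoreOf (Cfsg.beta N) N ⊓ centralizer (S : Set G) ⊓ centralizer (P : Set G) = ⊥)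
    {y : G} (hy : y ∈ M ⊓ centralizer (P : Set G))
    (hs : orderOf y ∈ Cfsg.beta N) : False :=
  Cfg2.no_cross0 T.to0 h hc hy hs

end Cfsg.Agent.Lib.Helper98.BG139
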