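import Cfsg.Agent.Lib.Helper2.BG139Defs
import Cfsg.Agent.Lib.Helper28.BG12b
import Cfsg.Agent.Lib.Helper3.RankTwoAut
import Cfsg.Agent.Lib.Helper69.BG36C0

/-!
Rung R4 of the ladder BG139 (Bender-Glauberman 13.9, statement S1378).  The conclusions of rung R1
that are used appear as explicit hypotheses.
-/

set_option autoImplicit false
set_option linter.unusedSectionVars false

namespace Cfsg.Agent.Lib.Helper98.BG139

open Subgroup Cfsg.Agent.Lib.Helper30 Cfsg.Agent.Lib.Helper2 Cfsg.Agent.Lib.Helper2.BG12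
  Cfsg.Agent.Lib.Helper68 Cfsg.Agent.Lib.Helper2.BG139

universe u

variable {G : Type u} [Group G]

theorem Cfg.S_ne_bot [Finite G] {q : ℕ} {M N S : Subgroup G} (h : Cfg q M N S) : S ≠ ⊥ := by
  rintro rfl
  apply h.hS.not_dvd
  rw [relIndex_bot_left]
  exact h.hqM.2.1.trans (card_dvd_of_le le_top)

theorem Cfg.S_le_sigmaCore [Finite G] (T : Texts G) {q : ℕ} {M N S : Subgroup G}
    (h : Cfg q M N S) : S ≤ Cfsg.sigmaCore M := by
  have : Fact q.Prime := ⟨h.hqM.1⟩
  exact Cfsg.Agent.Lib.Helper28.BG12.isPGroup_le_sigmaCore T.hG h.hM h.hqM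
    (le_normalizer.trans h.hDM) h.hS.isPGroup

theorem Cfg.inf_sigmaCore_le [Finite G] (T : Texts G) {q : ℕ} {M N S : Subgroup G}
    (h : Cfg q M N S)
    (hic : S ⊓ ⁅Cfsg.sigmaCore M, Cfsg.sigmaCore M⁆ = ⊥) :
    normalizer (S : Set G) ⊓ Cfsg.sigmaCore M ≤ centralizer (S : Set G) := by
  have hS := Cfg.S_le_sigmaCore T h
  intro x hx
  rw [mem_centralizer_iff]
  intro s hs
  have h1 : x * s * x⁻¹ * s⁻¹ ∈ S :=
    S.mul_mem ((mem_normalizer_iff.mp hx.1 s).mp hs) (S.inv_mem hs)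
  have h2 : x * s * x⁻¹ * s⁻¹ ∈ ⁅Cfsg.sigmaCore M, Cfsg.sigmaCore M⁆ :=
    commutator_mem_commutator hx.2 (hS hs)
  have h3 : x * s * x⁻¹ * s⁻¹ ∈ S ⊓ ⁅Cfsg.sigmaCore M, Cfsg.sigmaCore M⁆ := ⟨h1, h2⟩
  rw [hic, mem_bot] at h3
  have h4 : x * s = s * x := by
    have : x * s = (x * s * x⁻¹ * s⁻¹) * (s * x) := by group
    rw [this, h3, one_mul]
  exact h4.symm

theorem Cfg.commutator_le [Finite G] (T : Texts G) {q : ℕ} {M N S : Subgroup G}
    (h : Cfg q M N S) (hcomm : IsMulCommutative S) (hrank : Cfsg.PRankLE q 2 S) :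
    ⁅normalizer (S : Set G), normalizer (S : Set G)⁆ ≤ centralizer (S : Set G) := by
  have hq : Fact q.Prime := ⟨h.hqM.1⟩
  have hS1 := Cfg.S_ne_bot h
  have hq2 : q ≠ 2 := Cfsg.Agent.Lib.Helper28.BG12.ne_two_of_isPGroup T.hG h.hS.isPGroup hS1
  set D := normalizer (S : Set G) with hD
  have hDtop : D ≠ ⊤ := fun e => h.hM.1 (top_le_iff.mp (e ▸ h.hDM))
  have hsol : Group.IsSolvable D := solvable_of_ne_top T.hG hDtop
  have hodd : Odd (Nat.card D) := Odd.of_dvd_nat T.hG.1 (card_subgroup_dvd_card D)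
  have key := Cfsg.Agent.Lib.Helper3.commutator_act_trivial_of_rank_two hq2 (H := D) (R := S)
    h.hS.isPGroup hrank hodd S.normalizerMonoidHom
  have hSD : IsSylowIn q S D := IsSylowIn_of_le h.hS le_normalizer le_top
  have hker : S.subgroupOf D ≤ S.normalizerMonoidHom.ker := by
    rw [normalizerMonoidHom_ker]
    intro x hx
    rw [mem_subgroupOf] at hx ⊢
    rw [mem_centralizer_iff]
    intro s hs
    exact Cfsg.Agent.Lib.Helper69.comm_of_mem hcomm hs hx
  have hcop : ∀ x : D, (orderOf (S.normalizerMonoidHom x)).Coprime q := by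
    intro x
    have hn : (S.subgroupOf D).Normal := (normal_subgroupOf_iff_le_normalizer le_normalizer).mpr le_rfl
    have h1 : x ^ (S.subgroupOf D).index ∈ S.normalizerMonoidHom.ker :=
      hker (Subgroup.pow_index_mem _ x)
    have h2 : orderOf (S.normalizerMonoidHom x) ∣ S.relIndex D := by
      apply orderOf_dvd_of_pow_eq_one
      rw [← map_pow]
      exact h1
    have h3 : (S.relIndex D).Coprime q :=
      ((Nat.Prime.coprime_iff_not_dvd hq.out).mpr hSD.not_dvd).symm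
    exact Nat.Coprime.coprime_dvd_left h2 h3
  rw [← map_subtype_commutator]
  rintro _ ⟨x, hx, rfl⟩
  have h1 := key x hx (hcop x)
  have h2 : x ∈ S.normalizerMonoidHom.ker := h1
  rw [normalizerMonoidHom_ker, mem_subgroupOf] at h2
  exact h2

theorem Cfg.inf_centralizer_eq_bot [Finite G] (T : Texts G) {q : ℕ} {M N S : Subgroup G}
    (h : Cfg q M N S) (hcomm : IsMulCommutative S) :
    S ⊓ centralizer (normalizer (S : Set G) : Set G) = ⊥ := by
  have hq : Fact q.Prime := ⟨h.hqM.1⟩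
  have hnd : ¬ q ∣ S.index := by
    have := h.hS.not_dvd
    rwa [relIndex_top_right] at this
  obtain ⟨V, hV, hVq⟩ := exists_isComplIn_normalizer (h.hS.isPGroup.toSylow hnd)
  have h11 := T.t11 q (h.hS.isPGroup.toSylow hnd) V hV
  rw [IsPGroup.toSylow_coe] at hV h11
  have hVD : V ≤ normalizer (S : Set G) := hV.2.1
  obtain ⟨n, hn⟩ := IsPGroup.iff_card.mp h.hS.isPGroup
  have hcop : (Nat.card S).Coprime (Nat.card V) := by
    rw [hn]; exact (Nat.Coprime.pow_right n hVq).symm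
  have h1 := Cfsg.Agent.Lib.Helper69.commutator_inf_centralizer_eq_bot S V hcomm hVD hcop
  rw [← h11] at h1
  rw [eq_bot_iff, ← h1]
  exact inf_le_inf_left S (centralizer_le hVD)

end Cfsg.Agent.Lib.Helper98.BG139
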