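import Cfsg.Agent.Lib.Helper53.JC2Defs
import Cfsg.Agent.Lib.Helper53.JCAll
import Cfsg.Agent.Lib.Helper12.Card
import Cfsg.Agent.S2943

set_option autoImplicit false

/-! Ladder JC2, rung PP: the properties of `P = ⟨K, T⟩`. -/

namespace Cfsg.Agent.Lib.Helper98.JC2

open Cfsg Subgroup Cfsg.Agent.Lib.Helper53 Cfsg.Agent.Lib.Helper53.JC Cfsg.Agent.Lib.Helper53.JC2
open scoped commutatorElement

variable {G : Type*} [Group G]

/-- elements of a four-group. -/
theorem four_elems {W : Subgroup G} (h4 : Nat.card W = 4) (h2 : ∀ w ∈ W, w * w = 1) {a b : G}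
    (ha : a ∈ W) (hb : b ∈ W) (ha1 : a ≠ 1) (hb1 : b ≠ 1) (hab : a ≠ b) :
    ∀ w ∈ W, w = 1 ∨ w = a ∨ w = b ∨ w = a * b := by
  classical
  have hfin : Finite W := Nat.finite_of_card_ne_zero (by rw [h4]; omega)
  have := Fintype.ofFinite W
  intro w hw
  by_contra hcon
  push Not at hcon
  have hab1 : a * b ≠ 1 := by
    intro e
    apply hab
    have := h2 b hb
    exact mul_right_cancel (e.trans this.symm)
  have haba : a * b ≠ a := fun e => hb1 (mul_left_cancel (e.trans (mul_one a).symm))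
  have habb : a * b ≠ b := fun e => ha1 (mul_right_cancel (e.trans (one_mul b).symm))
  let s : Finset W := {⟨1, W.one_mem⟩, ⟨a, ha⟩, ⟨b, hb⟩, ⟨a * b, W.mul_mem ha hb⟩, ⟨w, hw⟩}
  have hs : s.card = 5 := by
    simp only [s]
    rw [Finset.card_insert_of_notMem, Finset.card_insert_of_notMem, Finset.card_insert_of_notMem,
      Finset.card_insert_of_notMem, Finset.card_singleton]
    · simp only [Finset.mem_singleton, Subtype.mk.injEq]
      exact fun e => hcon.2.2.2 e.symm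
    · simp only [Finset.mem_insert, Finset.mem_singleton, Subtype.mk.injEq, not_or]
      exact ⟨fun e => habb e.symm, fun e => hcon.2.2.1 e.symm⟩
    · simp only [Finset.mem_insert, Finset.mem_singleton, Subtype.mk.injEq, not_or]
      exact ⟨hab, fun e => haba e.symm, fun e => hcon.2.1 e.symm⟩
    · simp only [Finset.mem_insert, Finset.mem_singleton, Subtype.mk.injEq, not_or]
      exact ⟨fun e => ha1 e.symm, fun e => hb1 e.symm, fun e => hab1 e.symm, fun e => hcon.1 e.symm⟩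
  have := Finset.card_le_univ s
  rw [hs, ← Nat.card_eq_fintype_card, h4] at this
  omega

theorem exists_ne_one_of_ne_bot' {H : Subgroup G} (h : H ≠ ⊥) : ∃ x ∈ H, x ≠ 1 := by
  rw [Ne, Subgroup.eq_bot_iff_forall] at h
  push Not at h
  exact h

theorem pp [Finite G] {S : Sylow 2 G} {M T K L : Subgroup G} (c : C51 S M T K L) (f : AF S T K L)
    (h : Concl51 S T K L) : PPr T K L := by
  have hK := f.jc
  have hKL : K ≤ L := le_sup_left.trans c.hKL
  have hTL : T ≤ L := f.syl.1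
  have hZ0T : omegaCenterOf (JJ T) ≤ omegaCenterOf T := by
    rcases h.2 with ⟨e, -⟩ | ⟨e, -, -⟩ | ⟨e, -, -⟩
    · exact e ▸ f.a4
    · exact e ▸ f.a4
    · exact e.ge
  obtain ⟨w0, hw0, hw01⟩ := exists_ne_one_of_ne_bot' h.1
  have hw0Z : w0 ∈ omegaCenterOf T := hZ0T hw0.1
  have hw0W : w0 ∈ wOf K := hw0.2
  have hw0T : w0 ∈ T := omegaCenterOf_le T hw0Z
  have hw0C : w0 ∈ centralizer (T : Set G) := omegaCenterOf_le_centralizer T hw0Z
  have nrm : T ≤ normalizer (K : Set G) :=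
    Cfsg.Agent.S2943.result c.zn.hL c.zn.hN c.zn.hZ T f.hT2 f.hT1 L f.jo K hK hKL (by
      intro e
      apply hw01
      have h1 : w0 ∈ T ⊓ centralizer (T : Set G) ⊓ wOf K := ⟨⟨hw0T, hw0C⟩, hw0W⟩
      rw [e] at h1
      exact h1)
  have hPL : K ⊔ T ≤ L := sup_le hKL hTL
  have hsylL : IsSyl 2 T L := isSylowTwoIn_iff.1 f.syl
  have hsylP : IsSyl 2 T (K ⊔ T) := hsylL.of_le le_sup_right hPL
  obtain ⟨Q, hQ⟩ : ∃ Q, Q = pCoreOf 2 (K ⊔ T) := ⟨_, rfl⟩
  have hQT : Q ≤ T := hQ ▸ pCoreOf_le_isSyl hsylP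
  have hPQ : K ⊔ T ≤ normalizer (Q : Set G) := hQ ▸ le_normalizer_pCoreOf 2 _
  have hPK : K ⊔ T ≤ normalizer (K : Set G) := sup_le le_normalizer nrm
  have hTn : ¬ K ≤ normalizer (T : Set G) := by
    intro hn
    have h1 : K ≤ normalizer (JJ T : Set G) := hn.trans (normalizer_le_normalizer_JJ T)
    have h2 : ⁅K, JJ T⁆ ≤ JJ T := by
      rw [Subgroup.commutator_le]
      intro k hk j hj
      rw [commutatorElement_def]
      exact (JJ T).mul_mem ((mem_normalizer_iff.mp (h1 hk) j).mp hj) ((JJ T).inv_mem hj)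
    apply jc_not_isPGroup hK
    exact f.hT2.to_le ((hK.2.1.ge.trans h2).trans (JJ_le T))
  have hKT : K ⊓ T = pCoreOf 2 K := by
    have h1 : IsSyl 2 (T ⊓ K) K := hsylP.inf_normal le_sup_left hPK
    rcases jc_eq_or_eq hK (B := K ⊓ T)
      (le_inf (pCoreOf_le 2 K) ((pCoreOf_le_isSyl h1).trans inf_le_left)) inf_le_left with e | e
    · exact e
    · exact absurd (f.hT2.to_le (e ▸ inf_le_right)) (jc_not_isPGroup hK)
  have h3 : T.relIndex (K ⊔ T) = 3 := by
    have e1 := Helper12.card_sup_mul_card_inf' T K nrm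
    have e2 := relIndex_mul_relIndex ⊥ (pCoreOf 2 K) K bot_le (pCoreOf_le 2 K)
    have e3 := relIndex_mul_relIndex ⊥ T (K ⊔ T) bot_le le_sup_right
    rw [relIndex_bot_left, relIndex_bot_left] at e2 e3
    rw [hK.2.2.1] at e2
    rw [sup_comm, inf_comm, hKT, ← e2, ← e3] at e1
    have hpos1 : 0 < Nat.card T := Nat.card_pos
    have hpos2 : 0 < Nat.card (pCoreOf 2 K) := Nat.card_pos
    have e4 : Nat.card T * Nat.card (pCoreOf 2 K) * T.relIndex (K ⊔ T) =
        Nat.card T * Nat.card (pCoreOf 2 K) * 3 := by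
      calc _ = Nat.card T * T.relIndex (K ⊔ T) * Nat.card (pCoreOf 2 K) := by ring
        _ = Nat.card T * (Nat.card (pCoreOf 2 K) * 3) := e1
        _ = _ := by ring
    exact Nat.eq_of_mul_eq_mul_left (Nat.mul_pos hpos1 hpos2) e4
  have hPW : K ⊔ T ≤ normalizer (wOf K : Set G) := hPK.trans (normalizer_le_normalizer_wOf K)
  have hC2 : IsPGroup 2 ↥((K ⊔ T) ⊓ centralizer (wOf K : Set G)) := by
    rintro ⟨g, hg⟩
    obtain ⟨n, hn⟩ := exists_pow_coprime (p := 2) g
    refine ⟨n, ?_⟩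
    have h1 : g ^ 2 ^ n ∈ K := by
      obtain ⟨k, hk⟩ := exists_pow_mem_of_mem_sup nrm f.hT2 (x := g ^ 2 ^ n)
        (by rw [sup_comm]; exact pow_mem hg.1 _)
      exact mem_of_pow_mem_of_coprime hn hk
    have h2 : g ^ 2 ^ n ∈ pCoreOf 2 K := by
      rw [← jc_inf_centralizer_wOf hK]
      exact ⟨h1, pow_mem hg.2 _⟩
    obtain ⟨m, hm⟩ := (pCoreOf_isPGroup 2 K) ⟨_, h2⟩
    have hm' : (g ^ 2 ^ n) ^ 2 ^ m = 1 := by simpa using congrArg Subtype.val hm
    have h3 : orderOf (g ^ 2 ^ n) ∣ 2 ^ m := orderOf_dvd_of_pow_eq_one hm'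
    have h4 : orderOf (g ^ 2 ^ n) = 1 := Nat.Coprime.eq_one_of_dvd (hn.pow_right m) h3
    apply Subtype.ext
    simpa using orderOf_eq_one_iff.mp h4
  have hCQ : (K ⊔ T) ⊓ centralizer (wOf K : Set G) ≤ Q := by
    rw [hQ]
    exact le_pCoreOf inf_le_left
      (le_normalizer_inf le_normalizer (hPW.trans (normalizer_le_normalizer_cent _))) hC2
  have hQneT : Q ≠ T := fun e => hTn (e ▸ (le_sup_left.trans hPQ))
  obtain ⟨a, haT, haQ⟩ := SetLike.exists_of_lt (lt_of_le_of_ne hQT hQneT)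
  -- a second element of `W`
  have hw0K : w0 ∉ centralizer (K : Set G) := by
    intro hc
    apply hw01
    have h1 : w0 ∈ wOf K ⊓ centralizer (K : Set G) := ⟨hw0W, hc⟩
    rw [jc_wOf_inf_centralizer hK] at h1
    exact h1
  obtain ⟨k, hk, hkw⟩ : ∃ k ∈ K, k * w0 * k⁻¹ ≠ w0 := by
    by_contra hcon
    push Not at hcon
    apply hw0K
    rw [mem_centralizer_iff]
    intro k hk
    have := hcon k hk
    rw [mul_inv_eq_iff_eq_mul] at this
    exact this
  obtain ⟨w1, hw1⟩ : ∃ w1, w1 = k * w0 * k⁻¹ := ⟨_, rfl⟩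
  have hw1W : w1 ∈ wOf K := hw1 ▸ (mem_normalizer_iff.mp (le_normalizer_wOf K hk) w0).mp hw0W
  have hw11 : w1 ≠ 1 := by
    intro e
    apply hw01
    rw [hw1, mul_inv_eq_iff_eq_mul, one_mul] at e
    exact mul_left_cancel (e.trans (mul_one k).symm)
  have hw10 : w0 ≠ w1 := fun e => hkw (hw1 ▸ e.symm)
  have hWel := four_elems hK.2.2.2.2.1 hK.2.2.2.2.2 hw0W hw1W hw01 hw11 hw10
  have hw0t : ∀ t ∈ T, t * w0 = w0 * t := fun t ht => mem_centralizer_iff.mp hw0C t ht
  have hcentW : ∀ t ∈ T, t * w1 * t⁻¹ = w1 → t ∈ Q := by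
    intro t ht e
    apply hCQ
    refine ⟨le_sup_right (a := K) ht, ?_⟩
    rw [mul_inv_eq_iff_eq_mul] at e
    show t ∈ centralizer (wOf K : Set G)
    rw [mem_centralizer_iff]
    intro w hw
    rcases hWel w hw with rfl | rfl | rfl | rfl
    · rw [one_mul, mul_one]
    · exact (hw0t t ht).symm
    · exact e.symm
    · rw [mul_assoc, ← e, ← mul_assoc, ← hw0t t ht, mul_assoc]
  have hmove : ∀ t ∈ T, t ∉ Q → t * w1 * t⁻¹ = w0 * w1 := by
    intro t ht htQ
    rcases hWel _ ((mem_normalizer_iff.mp (hPW (le_sup_right (a := K) ht)) w1).mp hw1W)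
      with e | e | e | e
    · exfalso
      apply hw11
      rw [mul_inv_eq_iff_eq_mul, one_mul] at e
      exact mul_left_cancel (e.trans (mul_one t).symm)
    · exfalso
      rw [mul_inv_eq_iff_eq_mul, ← hw0t t ht] at e
      exact hw10 (mul_left_cancel e).symm
    · exact absurd (hcentW t ht e) htQ
    · exact e
  have hw00 : w0 * w0 = 1 := hK.2.2.2.2.2 w0 hw0W
  have hind : ∀ b ∈ T, b ∉ Q → b * a ∈ Q := by
    intro b hb hbQ
    apply hcentW _ (T.mul_mem hb haT)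
    have e1 : b * a * w1 * (b * a)⁻¹ = b * (a * w1 * a⁻¹) * b⁻¹ := by group
    rw [e1, hmove a haT haQ]
    have e2 : b * (w0 * w1) * b⁻¹ = (b * w0) * b⁻¹ * (b * w1 * b⁻¹) := by group
    rw [e2, hmove b hb hbQ, hw0t b hb, mul_assoc w0 b, mul_inv_cancel, mul_one, ← mul_assoc, hw00,
      one_mul]
  have h2 : Q.relIndex T = 2 := by
    unfold relIndex
    rw [index_eq_two_iff]
    refine ⟨⟨a, haT⟩, ?_⟩
    rintro ⟨b, hbT⟩
    simp only [mem_subgroupOf, Subgroup.coe_mul]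
    by_cases hb : b ∈ Q
    · right
      refine ⟨hb, fun hba => haQ ?_⟩
      have := Q.mul_mem (Q.inv_mem hb) hba
      rwa [← mul_assoc, inv_mul_cancel, one_mul] at this
    · left
      exact ⟨hind b hbT hb, hb⟩
  have hO2L : pCoreOf 2 L ≤ Q := hQ ▸ le_pCoreOf ((pCoreOf_le_isSyl hsylL).trans le_sup_right)
    (hPL.trans (le_normalizer_pCoreOf 2 L)) (pCoreOf_isPGroup 2 L)
  refine
    { nrm := nrm
      cen := ?_
      syl := isSylowTwoIn_iff.2 hsylP
      h6 := ?_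
      nab := ?_
      hZ := ?_
      hL := c.hLmax
      le := hPL
      sylL := f.syl
      uniq := fun L' hL' hle => f.uniq L' hL' ((sup_le_sup_left (JJ_le T) K).trans hle) }
  · rw [← hQ]
    exact (centralizer_le hO2L).trans (f.jo.2.2.trans hO2L)
  · rw [← hQ, ← relIndex_mul_relIndex Q T (K ⊔ T) hQT le_sup_right, h2, h3]
  · rw [← hQ]
    intro hcomm
    apply hTn
    intro k hk
    apply cj_eq_self_iff.mp
    apply cj_eq_of_le
    rintro _ ⟨t, ht, rfl⟩
    have h1 : ⁅k, t⁆ ∈ Q :=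
      hcomm (commutator_mem_commutator (le_sup_left (b := T) hk) (le_sup_right (a := K) ht))
    have e : (MulAut.conj k).toMonoidHom t = ⁅k, t⁆ * t := by
      simp [MulAut.conj_apply, commutatorElement_def]
    rw [e]
    exact T.mul_mem (hQT h1) ht
  · intro e
    apply hw0K
    rw [mem_centralizer_iff]
    intro k hk
    have h1 : ⁅w0, k⁆ ∈ ⁅omegaCenterOf T, K ⊔ T⁆ :=
      commutator_mem_commutator hw0Z (le_sup_left (b := T) hk)
    rw [e, mem_bot, commutatorElement_eq_one_iff_mul_comm] at h1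
    exact h1.symm

end Cfsg.Agent.Lib.Helper98.JC2
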