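import Mathlib

set_option autoImplicit false

namespace Cfsg.Agent.Lib.Helper98

open Equiv

variable {Ω ι : Type*}

/-- permutations preserving the partition of `Ω` into the fibres of `f` -/
def partStab (f : Ω → ι) : Subgroup (Perm Ω) where
  carrier := {g | ∀ x y : Ω, f x = f y ↔ f (g x) = f (g y)}
  mul_mem' := by
    intro g h hg hh x y
    rw [hh x y, hg (h x) (h y)]
    rfl
  one_mem' := by
    intro x y
    rfl
  inv_mem' := by
    intro g hg x y
    have := hg (g⁻¹ x) (g⁻¹ y)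
    simp at this
    exact this.symm

theorem mem_partStab {f : Ω → ι} {g : Perm Ω} :
    g ∈ partStab f ↔ ∀ x y : Ω, f x = f y ↔ f (g x) = f (g y) := Iff.rfl

theorem closure_partStab (f : Ω → ι) :
    Subgroup.closure {g : Perm Ω | ∀ x y : Ω, f x = f y ↔ f (g x) = f (g y)} = partStab f :=
  Subgroup.closure_eq (partStab f)

theorem mem_partStab_of_comp {f : Ω → ι} {g : Perm Ω} (σ : Perm ι) (h : ∀ x, f (g x) = σ (f x)) :
    g ∈ partStab f := by
  intro x y
  rw [h, h, σ.injective.eq_iff]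

theorem swap_mem_partStab [DecidableEq Ω] {f : Ω → ι} {x y : Ω} (h : f x = f y) :
    swap x y ∈ partStab f := by
  apply mem_partStab_of_comp 1
  intro u
  rw [swap_apply_def]
  split_ifs with h1 h2
  · rw [h1, h]; rfl
  · rw [h2, h]; rfl
  · rfl

/-- coordinates on a set partitioned in `b` blocks of size `a` -/
noncomputable def coords [Finite Ω] {a b : ℕ} (f : Ω → Fin b)
    (hf : ∀ i : Fin b, Nat.card {x : Ω // f x = i} = a) : Ω ≃ Fin b × Fin a :=
  (sigmaFiberEquiv f).symm.trans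
    (sigmaEquivProdOfEquiv (fun i => Finite.equivFinOfCardEq (hf i)))

theorem coords_fst [Finite Ω] {a b : ℕ} (f : Ω → Fin b)
    (hf : ∀ i : Fin b, Nat.card {x : Ω // f x = i} = a) (x : Ω) : (coords f hf x).1 = f x := rfl

theorem f_coords_symm [Finite Ω] {a b : ℕ} (f : Ω → Fin b)
    (hf : ∀ i : Fin b, Nat.card {x : Ω // f x = i} = a) (p : Fin b × Fin a) :
    f ((coords f hf).symm p) = p.1 := by
  rw [← coords_fst f hf, Equiv.apply_symm_apply]

/-- the permutation of `Ω` permuting the blocks according to `σ` -/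
noncomputable def blockPerm [Finite Ω] {a b : ℕ} (f : Ω → Fin b)
    (hf : ∀ i : Fin b, Nat.card {x : Ω // f x = i} = a) (σ : Perm (Fin b)) : Perm Ω :=
  (coords f hf).symm.permCongr (σ.prodCongr (Equiv.refl _))

theorem f_blockPerm [Finite Ω] {a b : ℕ} (f : Ω → Fin b)
    (hf : ∀ i : Fin b, Nat.card {x : Ω // f x = i} = a) (σ : Perm (Fin b)) (x : Ω) :
    f (blockPerm f hf σ x) = σ (f x) := by
  unfold blockPerm
  rw [Equiv.permCongr_apply, f_coords_symm f hf]
  rfl

theorem blockPerm_mem [Finite Ω] {a b : ℕ} (f : Ω → Fin b)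
    (hf : ∀ i : Fin b, Nat.card {x : Ω // f x = i} = a) (σ : Perm (Fin b)) :
    blockPerm f hf σ ∈ partStab f :=
  mem_partStab_of_comp σ (f_blockPerm f hf σ)

section swaps

variable [DecidableEq Ω] (L : Subgroup (Perm Ω))

theorem swap_mem_trans {u v w : Ω} (h1 : swap u v ∈ L) (h2 : swap v w ∈ L) : swap u w ∈ L := by
  by_cases huv : u = v
  · rw [huv]; exact h2
  by_cases huw : u = w
  · rw [huw, swap_self]; exact L.one_mem
  rw [swap_comm, ← swap_mul_swap_mul_swap huv huw]
  exact L.mul_mem (L.mul_mem h2 h1) h2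

theorem swap_mem_symm {u v : Ω} (h1 : swap u v ∈ L) : swap v u ∈ L := by
  rw [swap_comm]; exact h1

theorem swap_mem_smul {u v : Ω} {k : Perm Ω} (hk : k ∈ L) (h1 : swap u v ∈ L) :
    swap (k u) (k v) ∈ L := by
  rw [swap_apply_apply]
  exact L.mul_mem (L.mul_mem hk h1) (L.inv_mem hk)

theorem eq_top_of_swaps [Finite Ω] (h : ∀ u v : Ω, swap u v ∈ L) : L = ⊤ := by
  rw [eq_top_iff, ← Perm.closure_isSwap, Subgroup.closure_le]
  rintro σ ⟨u, v, -, rfl⟩
  exact h u v

end swaps

theorem exists_swap_of_partStab_lt [DecidableEq Ω] {f : Ω → ι} {L : Subgroup (Perm Ω)}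
    (hL : partStab f < L) : ∃ p q : Ω, f p ≠ f q ∧ swap p q ∈ L := by
  obtain ⟨g, hgL, hg⟩ := SetLike.exists_of_lt hL
  rw [mem_partStab] at hg
  push Not at hg
  obtain ⟨x, y, hxy⟩ := hg
  rcases hxy with ⟨h1, h2⟩ | ⟨h1, h2⟩
  · exact ⟨g x, g y, h2, swap_mem_smul L hgL (hL.le (swap_mem_partStab h1))⟩
  · refine ⟨x, y, h1, ?_⟩
    have := swap_mem_smul L (L.inv_mem hgL) (hL.le (swap_mem_partStab h2))
    simpa using this

theorem partStab_ne_top [Finite Ω] [DecidableEq Ω] {a b : ℕ} (ha : 2 ≤ a) (hb : 2 ≤ b) (f : Ω → Fin b)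
    (hf : ∀ i : Fin b, Nat.card {x : Ω // f x = i} = a) : partStab f ≠ ⊤ := by
  intro htop
  set E := coords f hf
  set x := E.symm (⟨0, by omega⟩, ⟨0, by omega⟩) with hx
  set y := E.symm (⟨0, by omega⟩, ⟨1, by omega⟩) with hy
  set z := E.symm (⟨1, by omega⟩, ⟨0, by omega⟩) with hz
  have hfx : f x = ⟨0, by omega⟩ := f_coords_symm f hf _
  have hfy : f y = ⟨0, by omega⟩ := f_coords_symm f hf _
  have hfz : f z = ⟨1, by omega⟩ := f_coords_symm f hf _
  have hxy : x ≠ y := by
    intro h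
    have := E.symm.injective h
    simp at this
  have hzy : z ≠ y := by
    intro h
    rw [h, hfy] at hfz
    simp at hfz
  have hmem : swap x z ∈ partStab f := htop ▸ Subgroup.mem_top _
  have := (hmem x y).mp (hfx.trans hfy.symm)
  rw [swap_apply_left, swap_apply_of_ne_of_ne hxy.symm hzy.symm, hfz, hfy] at this
  simp at this

theorem isCoatom_partStab [Finite Ω] {a b : ℕ} (ha : 2 ≤ a) (hb : 2 ≤ b) (f : Ω → Fin b)
    (hf : ∀ i : Fin b, Nat.card {x : Ω // f x = i} = a) : IsCoatom (partStab f) := by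
  classical
  refine ⟨partStab_ne_top ha hb f hf, fun L hL => ?_⟩
  obtain ⟨p, q, hpq, hswap⟩ := exists_swap_of_partStab_lt hL
  have hblock : ∀ u v : Ω, f u = f v → swap u v ∈ L := fun u v h => hL.le (swap_mem_partStab h)
  have hp : ∀ u : Ω, swap p u ∈ L := by
    intro u
    by_cases h1 : f u = f p
    · exact hblock _ _ h1.symm
    by_cases h2 : f u = f q
    · exact swap_mem_trans L hswap (hblock _ _ h2.symm)
    set k := blockPerm f hf (swap (f q) (f u)) with hk
    have hkL : k ∈ L := hL.le (blockPerm_mem f hf _)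
    have h3 : f (k p) = f p := by
      rw [hk, f_blockPerm f hf, swap_apply_of_ne_of_ne hpq (Ne.symm h1)]
    have h4 : f (k q) = f u := by
      rw [hk, f_blockPerm f hf, swap_apply_left]
    exact swap_mem_trans L (hblock _ _ h3.symm)
      (swap_mem_trans L (swap_mem_smul L hkL hswap) (hblock _ _ h4))
  exact eq_top_of_swaps L fun u v => swap_mem_trans L (swap_mem_symm L (hp u)) (hp v)

end Cfsg.Agent.Lib.Helper98
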